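import Mathlib

/-!
Order of a normal subgroup meeting a point stabiliser trivially, from bounds on the suborbits
which add up to the exact index.
-/

set_option autoImplicit false

namespace CfsgLib.Th34

variable {G : Type*} [Group G] (H : Subgroup G)

/-- The orbit of the coset of `w` under left multiplication by `H`. -/
def suborbit (w : G) : Set (G ⧸ H) := {q | ∃ h ∈ H, q = ((h * w : G) : G ⧸ H)}

theorem self_mem_suborbit (w : G) : (w : G ⧸ H) ∈ suborbit H w :=
  ⟨1, H.one_mem, by rw [one_mul]⟩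

/-- If suborbit bounds add up to the index, a union of suborbits has the sum of its bounds as
cardinality. -/
theorem card_eq_sum_of_suborbits [Finite (G ⧸ H)] {ι : Type*} [Fintype ι] [DecidableEq ι]
    (w : ι → G) (n : ι → ℕ) (hcov : ∀ q : G ⧸ H, ∃ i, q ∈ suborbit H (w i))
    (hle : ∀ i, (suborbit H (w i)).ncard ≤ n i) (hsum : ∑ i, n i = H.index)
    (S : Set (G ⧸ H)) (hS : ∀ q ∈ S, ∀ h ∈ H, h • q ∈ S) :
    ∃ T : Finset ι, (∀ i, i ∈ T ↔ (w i : G ⧸ H) ∈ S) ∧ S.ncard = ∑ i ∈ T, n i := by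
  classical
  let T : Finset ι := Finset.univ.filter fun i => (w i : G ⧸ H) ∈ S
  have hmem : ∀ i q, q ∈ suborbit H (w i) → (q ∈ S ↔ (w i : G ⧸ H) ∈ S) := by
    rintro i q ⟨h, hh, rfl⟩
    refine ⟨fun hq => ?_, fun hq => by simpa using hS _ hq h hh⟩
    simpa [← mul_assoc] using hS _ hq h⁻¹ (H.inv_mem hh)
  have bound : ∀ (T' : Finset ι) (S' : Set (G ⧸ H)),
      S' ⊆ ⋃ i ∈ T', suborbit H (w i) → S'.ncard ≤ ∑ i ∈ T', n i := fun T' S' hsub =>
    (Set.ncard_le_ncard hsub (Set.toFinite _)).trans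
      ((Finset.set_ncard_biUnion_le T' fun i => suborbit H (w i)).trans
        (Finset.sum_le_sum fun i _ => hle i))
  have h1 : S.ncard ≤ ∑ i ∈ T, n i := bound T S (by
    intro q hq
    obtain ⟨i, hi⟩ := hcov q
    exact Set.mem_biUnion (Finset.mem_filter.mpr ⟨Finset.mem_univ i, (hmem i q hi).mp hq⟩) hi)
  have h2 : Sᶜ.ncard ≤ ∑ i ∈ Tᶜ, n i := bound Tᶜ Sᶜ (by
    intro q hq
    obtain ⟨i, hi⟩ := hcov q
    refine Set.mem_biUnion ?_ hi
    simp only [T, Finset.coe_compl, Set.mem_compl_iff, Finset.mem_coe, Finset.mem_filter,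
      Finset.mem_univ, true_and]
    exact fun hc => hq ((hmem i q hi).mpr hc))
  have h3 : S.ncard + Sᶜ.ncard = Nat.card (G ⧸ H) := Set.ncard_add_ncard_compl S
  have h4 : ∑ i ∈ T, n i + ∑ i ∈ Tᶜ, n i = H.index := by rw [Finset.sum_add_sum_compl, hsum]
  refine ⟨T, fun i => by simp [T], ?_⟩
  rw [Subgroup.index] at h4
  omega

/-- A normal subgroup meeting `H` trivially has order dividing the index, and its order is a
partial sum, through the base point, of suborbit bounds adding up to the index. -/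
theorem card_normal_eq_sum [Finite G] {ι : Type*} [Fintype ι] [DecidableEq ι]
    (w : ι → G) (n : ι → ℕ) (i0 : ι) (hw0 : w i0 ∈ H)
    (hcov : ∀ q : G ⧸ H, ∃ i, q ∈ suborbit H (w i))
    (hle : ∀ i, (suborbit H (w i)).ncard ≤ n i) (hsum : ∑ i, n i = H.index)
    (N : Subgroup G) [hN : N.Normal] (hNH : N ⊓ H = ⊥) :
    ∃ T : Finset ι, i0 ∈ T ∧ Nat.card N = ∑ i ∈ T, n i ∧ Nat.card N ∣ H.index := by
  classical
  let f : N → G ⧸ H := fun x => ((x : G) : G ⧸ H)
  have hf : Function.Injective f := by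
    intro x y hxy
    have h1 : (x : G)⁻¹ * y ∈ N ⊓ H :=
      ⟨N.mul_mem (N.inv_mem x.2) y.2, QuotientGroup.eq.mp hxy⟩
    rw [hNH, Subgroup.mem_bot] at h1
    exact Subtype.ext (inv_mul_eq_one.mp h1)
  have hS : ∀ q ∈ Set.range f, ∀ h ∈ H, h • q ∈ Set.range f := by
    rintro _ ⟨x, rfl⟩ h hh
    refine ⟨⟨h * x * h⁻¹, hN.conj_mem x x.2 h⟩, ?_⟩
    show ((h * x * h⁻¹ : G) : G ⧸ H) = ((h * x : G) : G ⧸ H)
    rw [QuotientGroup.eq]
    simpa [mul_assoc] using hh
  have hcard : (Set.range f).ncard = Nat.card N := Set.ncard_range_of_injective hf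
  obtain ⟨T, hT, hTc⟩ := card_eq_sum_of_suborbits H w n hcov hle hsum (Set.range f) hS
  refine ⟨T, (hT i0).mpr ⟨1, ?_⟩, hcard ▸ hTc, ?_⟩
  · show ((1 : G) : G ⧸ H) = _
    rw [QuotientGroup.eq]
    simpa using hw0
  · have h1 : Nat.card N * Nat.card H ∣ H.index * Nat.card H := by
      rw [mul_comm H.index, Subgroup.card_mul_index]
      have h3 : Nat.card (N ⊔ H : Subgroup G) = Nat.card N * Nat.card H := by
        have hinj : Function.Injective fun p : N × H => (p.1 : G) * p.2 := by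
          rintro ⟨x, y⟩ ⟨x', y'⟩ he
          have he' : (x' : G)⁻¹ * x = y' * (y : G)⁻¹ := by
            rw [eq_mul_inv_iff_mul_eq, mul_assoc, inv_mul_eq_iff_eq_mul]
            exact he
          have h1 : (x' : G)⁻¹ * x ∈ N ⊓ H :=
            ⟨N.mul_mem (N.inv_mem x'.2) x.2, he' ▸ H.mul_mem y'.2 (H.inv_mem y.2)⟩
          rw [hNH, Subgroup.mem_bot] at h1
          have hx : (x : G) = x' := (inv_mul_eq_one.mp h1).symm
          simp only [hx, mul_right_inj] at he
          exact Prod.ext (Subtype.ext hx) (Subtype.ext he)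
        rw [← Nat.card_prod]
        symm
        apply Nat.card_eq_of_bijective fun p : N × H =>
          (⟨(p.1 : G) * p.2, Subgroup.mul_mem_sup p.1.2 p.2.2⟩ : (N ⊔ H : Subgroup G))
        refine ⟨fun p q h => hinj (congrArg Subtype.val h), fun ⟨z, hz⟩ => ?_⟩
        obtain ⟨x, hx, y, hy, rfl⟩ := Subgroup.mem_sup_of_normal_left.mp hz
        exact ⟨⟨⟨x, hx⟩, ⟨y, hy⟩⟩, rfl⟩
      rw [← h3]
      exact Subgroup.card_subgroup_dvd_card _
    exact Nat.dvd_of_mul_dvd_mul_right Nat.card_pos h1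

end CfsgLib.Th34
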