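import Mathlib
import Cfsg.Agent.Eq.Def_Spor_Th

/-!
The presented Thompson group: shared names for the generators and the two standard subgroups
`H = ⟨a, b, c, d, e, s, t⟩` and `L = ⟨a, b, c, d, e, s⟩`, and perfectness facts.
-/

set_option autoImplicit false

namespace CfsgLib.Th34

open Cfsg.Spor

/-- The quotient map from words to the presented group. -/
abbrev π : FreeGroup Th.Gen →* Cfsg.Spor.Th :=
  PresentedGroup.mk (coxRelators Th.edges ∪ {r | r ∈ Th.extra})

/-- The generators. -/
abbrev g (x : Th.Gen) : Cfsg.Spor.Th := π (FreeGroup.of x)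

/-- The subgroup `⟨a, b, c, d, e, s, t⟩`, exactly as in the statement of the index. -/
abbrev H : Subgroup Cfsg.Spor.Th :=
  (Subgroup.closure ({Th.a, Th.b, Th.c, Th.d, Th.e, Th.s, Th.t} : Set (FreeGroup Th.Gen))).map π

/-- The subgroup `⟨a, b, c, d, e, s⟩`. -/
abbrev L : Subgroup Cfsg.Spor.Th :=
  (Subgroup.closure ({Th.a, Th.b, Th.c, Th.d, Th.e, Th.s} : Set (FreeGroup Th.Gen))).map π

theorem rel {r : FreeGroup Th.Gen} (h : r ∈ Th.extra) : π r = 1 :=
  (QuotientGroup.eq_one_iff r).mpr (Subgroup.subset_normalClosure (Or.inr h))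

theorem rel_get (n : Fin Th.extra.length) : π (Th.extra.get n) = 1 :=
  rel (List.get_mem Th.extra n)

theorem rel_getElem (n : ℕ) (h : n < Th.extra.length) : π Th.extra[n] = 1 :=
  rel (List.getElem_mem h)

theorem closure_gens : Subgroup.closure (Set.range g) = ⊤ := by
  have : Set.range g = π '' Set.range FreeGroup.of := (Set.range_comp π FreeGroup.of)
  rw [this, ← MonoidHom.map_closure, FreeGroup.closure_range_of,
    Subgroup.map_top_of_surjective _ (PresentedGroup.mk_surjective _)]

theorem L_le_H : L ≤ H :=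
  Subgroup.map_mono (Subgroup.closure_mono (by intro x hx; simp at hx ⊢; tauto))

theorem g_mem_H {x : Th.Gen} (hx : x ≠ .u) : g x ∈ H := by
  refine Subgroup.mem_map_of_mem π (Subgroup.subset_closure ?_)
  cases x <;> simp_all

theorem g_mem_L {x : Th.Gen} (hx : x ≠ .u) (hx' : x ≠ .t) : g x ∈ L := by
  refine Subgroup.mem_map_of_mem π (Subgroup.subset_closure ?_)
  cases x <;> simp_all

/-- A homomorphism trivial on `L` is trivial. -/
theorem eq_one_of_L {M : Type*} [Group M] (f : Cfsg.Spor.Th →* M) (h : L ≤ f.ker) : f = 1 := by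
  have hL : ∀ x : Th.Gen, x ≠ .u → x ≠ .t → f (g x) = 1 := fun x hu ht => h (g_mem_L hu ht)
  have ha := hL .a (by decide) (by decide)
  have hc := hL .c (by decide) (by decide)
  have hs := hL .s (by decide) (by decide)
  have r1 := congrArg f (rel (r := (Th.u ^ 2) * ((Th.a * Th.c)⁻¹)) (by simp [Th.extra]))
  have r2 := congrArg f (rel (r := (Th.a * Th.c) * (((Th.u * Th.s) ^ 3)⁻¹)) (by simp [Th.extra]))
  have r3 := congrArg f (rel (r := (Th.u⁻¹ * Th.t * Th.u) * ((Th.t⁻¹)⁻¹)) (by simp [Th.extra]))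
  have r4 := congrArg f (rel (r := Th.t ^ 3) (by simp [Th.extra]))
  simp only [g] at ha hc hs
  simp only [map_mul, map_pow, map_inv, map_one, ha, hc, hs, mul_one, one_mul, inv_one] at r1 r2 r3 r4
  have hu : f (π Th.u) = 1 := by
    have h3 : f (π Th.u) ^ 3 = 1 := inv_eq_one.mp r2
    rw [pow_succ, r1, one_mul] at h3
    exact h3
  have ht : f (π Th.t) = 1 := by
    rw [hu] at r3
    simp only [inv_one, one_mul, mul_one, inv_inv] at r3
    calc f (π Th.t) = f (π Th.t) ^ 3 * (f (π Th.t) * f (π Th.t))⁻¹ := by group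
      _ = 1 := by rw [r4, r3, inv_one, mul_one]
  apply MonoidHom.eq_of_eqOn_dense closure_gens
  rintro _ ⟨x, rfl⟩
  show f (g x) = 1
  cases x
  case u => exact hu
  case t => exact ht
  all_goals exact hL _ (by decide) (by decide)

theorem commutator_eq_top_of (hL : L ≤ commutator Cfsg.Spor.Th) :
    commutator Cfsg.Spor.Th = ⊤ := by
  have h := eq_one_of_L (QuotientGroup.mk' (commutator Cfsg.Spor.Th))
    (by rw [QuotientGroup.ker_mk']; exact hL)
  rw [eq_top_iff]
  intro x _
  exact (QuotientGroup.eq_one_iff x).mp (DFunLike.congr_fun h x)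

end CfsgLib.Th34
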