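import Cfsg.Agent.Th34.Assemble
import Cfsg.Agent.Th34.Cyclic
import Cfsg.Agent.Th34.Three.Main
import Cfsg.Agent.ThCent69.CardK
import Cfsg.Agent.ThLB32.Five
import Cfsg.Agent.ThRep32.Rep

/-!
The presented Thompson group: its order, the index of `H`, simplicity, and faithfulness of the
representation of degree 248.
-/

set_option autoImplicit false

namespace CfsgLib.Th34

open CfsgLib

theorem card_th : Nat.card Cfsg.Spor.Th = 90745943887872000 :=
  (card_th_of_parts ThCent69.dvd_two Three.dvd_three ThLB32.Five.dvd Cyclic.dvd_nineteen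
    Cyclic.dvd_thirtyOne).1

theorem index_H : H.index = 143127000 :=
  (card_th_of_parts ThCent69.dvd_two Three.dvd_three ThLB32.Five.dvd Cyclic.dvd_nineteen
    Cyclic.dvd_thirtyOne).2

theorem isTh : Cfsg.IsTh Cfsg.Spor.Th := ⟨isSimple_of_index index_H, card_th⟩

theorem rep_injective : Function.Injective ThRep32.rep := by
  haveI := isTh.1
  rw [← MonoidHom.ker_eq_bot_iff]
  refine (IsSimpleGroup.eq_bot_or_eq_top_of_normal _
    (inferInstance : ThRep32.rep.ker.Normal)).resolve_right fun h => ?_
  exact ThRep32.rep_ne_one (MonoidHom.ext fun x =>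
    MonoidHom.mem_ker.mp (h ▸ Subgroup.mem_top x : x ∈ ThRep32.rep.ker))

end CfsgLib.Th34
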