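import Cfsg.Agent.Th34.Basic
import Cfsg.Agent.Th34.SuborbitSimple

/-!
Simplicity of the presented Thompson group from the facts about `L ≤ H` and the suborbit sizes.
-/

set_option autoImplicit false

namespace CfsgLib.Th34

theorem eq_top_of_L_le (N : Subgroup Cfsg.Spor.Th) [N.Normal] (h : L ≤ N) : N = ⊤ := by
  have h1 := eq_one_of_L (QuotientGroup.mk' N) (by rw [QuotientGroup.ker_mk']; exact h)
  rw [eq_top_iff]
  intro x _
  exact (QuotientGroup.eq_one_iff x).mp (DFunLike.congr_fun h1 x)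

/-- Simplicity from the structure of `H` and bounds on suborbits adding up to the index. -/
theorem isSimple_of_data [Finite Cfsg.Spor.Th]
    (hnormal : ∀ K : Subgroup H, K.Normal → K = ⊥ ∨ L.subgroupOf H ≤ K)
    (hLnorm : (L.subgroupOf H).Normal) (hLprime : (L.relIndex H).Prime)
    (hLc : L ≤ commutator Cfsg.Spor.Th) (hLne : L ≠ ⊥)
    {ι : Type*} [Fintype ι] [DecidableEq ι] (w : ι → Cfsg.Spor.Th) (n : ι → ℕ) (i0 : ι)
    (hw0 : w i0 ∈ H) (hn0 : n i0 = 1)
    (hcov : ∀ q : Cfsg.Spor.Th ⧸ H, ∃ i, q ∈ suborbit H (w i))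
    (hle : ∀ i, (suborbit H (w i)).ncard ≤ n i) (hsum : ∑ i, n i = H.index)
    (hsub : ∀ T : Finset ι, i0 ∈ T → (∑ i ∈ T, n i) ∣ H.index → T = {i0} ∨ T = Finset.univ) :
    IsSimpleGroup Cfsg.Spor.Th := by
  haveI : Nontrivial Cfsg.Spor.Th := by
    obtain ⟨x, -, hx⟩ := (Subgroup.bot_or_exists_ne_one L).resolve_left hLne
    exact nontrivial_of_ne x 1 hx
  refine { eq_bot_or_eq_top_of_normal := fun N hN => ?_ }
  rcases hnormal (N.subgroupOf H) inferInstance with h | h
  swap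
  · refine Or.inr (eq_top_of_L_le N fun x hx => ?_)
    exact h (x := ⟨x, L_le_H hx⟩) hx
  have hNH : N ⊓ H = ⊥ := by
    rw [eq_bot_iff]
    rintro x ⟨hxN, hxH⟩
    have : (⟨x, hxH⟩ : H) ∈ N.subgroupOf H := hxN
    rw [h, Subgroup.mem_bot] at this
    exact Subgroup.mem_bot.mpr (congrArg Subtype.val this)
  obtain ⟨T, hT, hTc, hTd⟩ := card_normal_eq_sum H w n i0 hw0 hcov hle hsum N hNH
  rcases hsub T hT (hTc ▸ hTd) with rfl | rfl
  · refine Or.inl (Subgroup.eq_bot_of_card_eq N ?_)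
    rw [hTc, Finset.sum_singleton, hn0]
  exfalso
  let φ : H →* Cfsg.Spor.Th ⧸ N := (QuotientGroup.mk' N).comp H.subtype
  have hinj : Function.Injective φ := by
    rw [← MonoidHom.ker_eq_bot_iff, eq_bot_iff]
    intro x hx
    rw [← h]
    exact (QuotientGroup.eq_one_iff (x : Cfsg.Spor.Th)).mp hx
  have hcard : Nat.card H = Nat.card (Cfsg.Spor.Th ⧸ N) := by
    have h1 := Subgroup.card_mul_index N
    have h2 := Subgroup.card_mul_index H
    rw [hTc, hsum, ← h2, mul_comm (Nat.card H)] at h1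
    exact (Nat.eq_of_mul_eq_mul_left (Nat.pos_of_ne_zero Subgroup.FiniteIndex.index_ne_zero)
      h1).symm
  have hbij : Function.Bijective φ := hinj.bijective_of_nat_card_le hcard.ge
  let e : H ≃* Cfsg.Spor.Th ⧸ N := MulEquiv.ofBijective φ hbij
  haveI := hLnorm
  haveI : Fact (L.relIndex H).Prime := ⟨hLprime⟩
  haveI : IsCyclic (H ⧸ L.subgroupOf H) := isCyclic_of_prime_card (p := L.relIndex H) rfl
  let ψ : Cfsg.Spor.Th →* H ⧸ L.subgroupOf H :=
    (QuotientGroup.mk' (L.subgroupOf H)).comp ((e.symm.toMonoidHom).comp (QuotientGroup.mk' N))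
  have hker : ψ.ker = ⊤ := by
    rw [eq_top_iff, ← commutator_eq_top_of hLc, commutator_def, Subgroup.commutator_le]
    intro x _ y _
    rw [MonoidHom.mem_ker, map_commutatorElement, commutatorElement_eq_one_iff_commute]
    letI := IsCyclic.commGroup (α := H ⧸ L.subgroupOf H)
    exact mul_comm (ψ x) (ψ y)
  have hsurj : Function.Surjective ψ :=
    (QuotientGroup.mk'_surjective _).comp (e.symm.surjective.comp (QuotientGroup.mk'_surjective N))
  have hone : Subsingleton (H ⧸ L.subgroupOf H) := by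
    refine ⟨fun p q => ?_⟩
    obtain ⟨x, rfl⟩ := hsurj p
    obtain ⟨y, rfl⟩ := hsurj q
    rw [MonoidHom.mem_ker.mp (hker ▸ Subgroup.mem_top x : x ∈ ψ.ker),
      MonoidHom.mem_ker.mp (hker ▸ Subgroup.mem_top y : y ∈ ψ.ker)]
  exact hLprime.ne_one Nat.card_unique

end CfsgLib.Th34
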