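import Cfsg.Agent.Eq.Def_Sporadic
import Cfsg.Agent.Th34.SimpleOfData
import Cfsg.Agent.ThIndex62.Main
import Cfsg.Agent.ThModel83.Inj

/-!
Order, index and simplicity of the presented Thompson group, from a lower bound on its order.
-/

set_option autoImplicit false
set_option maxRecDepth 100000

namespace CfsgLib.Th34

open CfsgLib

theorem finite_th : Finite Cfsg.Spor.Th := by
  haveI := ThH99.finite_H
  haveI := ThIndex62.index_H_le.1
  refine Nat.finite_of_card_ne_zero ?_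
  rw [← Subgroup.card_mul_index H]
  exact mul_ne_zero Nat.card_pos.ne' Subgroup.FiniteIndex.index_ne_zero

theorem L_ne_bot : L ≠ ⊥ := ThModel83.L_ne_bot

theorem card_H : Nat.card H = 634023936 := ThH99.card_H L_ne_bot

theorem card_L : Nat.card L = 211341312 := ThH99.card_L L_ne_bot

theorem L_normal_in_H : (L.subgroupOf H).Normal := by
  obtain ⟨e, he⟩ := ThH99.exists_equiv_H L_ne_bot
  rw [← he]
  haveI : (ThH99.pL.subgroupOf ThH99.pH).Normal :=
    (Subgroup.normal_subgroupOf_iff_le_normalizer ThH99.pL_le_pH).2 ThH99.pH_le_normalizer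
  exact Subgroup.Normal.map inferInstance e.toMonoidHom e.surjective

theorem relIndex_L_H : L.relIndex H = 3 := by
  have h := Subgroup.card_mul_index (L.subgroupOf H)
  rw [Nat.card_congr (Subgroup.subgroupOfEquivOfLe L_le_H).toEquiv, card_L, card_H] at h
  rw [Subgroup.relIndex]
  omega

/-- The order of the group, given that each prime power part divides it. -/
theorem card_th_of_parts (h2 : 2 ^ 15 ∣ Nat.card Cfsg.Spor.Th)
    (h3 : 3 ^ 10 ∣ Nat.card Cfsg.Spor.Th) (h5 : 5 ^ 3 ∣ Nat.card Cfsg.Spor.Th)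
    (h19 : 19 ∣ Nat.card Cfsg.Spor.Th) (h31 : 31 ∣ Nat.card Cfsg.Spor.Th) :
    Nat.card Cfsg.Spor.Th = 90745943887872000 ∧ H.index = 143127000 := by
  haveI := finite_th
  have h7 : 7 ^ 2 * 13 ∣ Nat.card Cfsg.Spor.Th :=
    (show 7 ^ 2 * 13 ∣ Nat.card L from by rw [card_L]; norm_num).trans
      (Subgroup.card_subgroup_dvd_card L)
  generalize hN : Nat.card Cfsg.Spor.Th = N at h2 h3 h5 h7 h19 h31
  have hN0 : N ≠ 0 := hN ▸ Nat.card_pos.ne'
  have hd : 2 ^ 15 * 3 ^ 10 * 5 ^ 3 * (7 ^ 2 * 13) * 19 * 31 ∣ N :=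
    Nat.Coprime.mul_dvd_of_dvd_of_dvd (by norm_num : Nat.Coprime (2 ^ 15 * 3 ^ 10 * 5 ^ 3 * (7 ^ 2 * 13) * 19) 31)
      (Nat.Coprime.mul_dvd_of_dvd_of_dvd (by norm_num : Nat.Coprime (2 ^ 15 * 3 ^ 10 * 5 ^ 3 * (7 ^ 2 * 13)) 19)
        (Nat.Coprime.mul_dvd_of_dvd_of_dvd (by norm_num : Nat.Coprime (2 ^ 15 * 3 ^ 10 * 5 ^ 3) (7 ^ 2 * 13))
          (Nat.Coprime.mul_dvd_of_dvd_of_dvd (by norm_num : Nat.Coprime (2 ^ 15 * 3 ^ 10) (5 ^ 3))
            (Nat.Coprime.mul_dvd_of_dvd_of_dvd (by norm_num : Nat.Coprime (2 ^ 15) (3 ^ 10)) h2 h3)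
            h5) h7) h19) h31
  have hge := Nat.le_of_dvd (Nat.pos_of_ne_zero hN0) hd
  have hle := ThIndex62.index_H_le.2
  have heq : Nat.card H * H.index = N := (Subgroup.card_mul_index H).trans hN
  rw [card_H] at heq
  have e : (2:ℕ) ^ 15 * 3 ^ 10 * 5 ^ 3 * (7 ^ 2 * 13) * 19 * 31 = 90745943887872000 := by norm_num
  rw [e] at hge
  have hidx : H.index = 143127000 := le_antisymm hle
    (Nat.le_of_mul_le_mul_left
      (show 634023936 * 143127000 ≤ 634023936 * H.index by rw [heq]; exact le_of_eq_of_le (by norm_num) hge)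
      (by norm_num))
  exact ⟨by rw [← heq, hidx], hidx⟩

/-- Simplicity, given the index. -/
theorem isSimple_of_index (hidx : H.index = 143127000) : IsSimpleGroup Cfsg.Spor.Th := by
  haveI := finite_th
  have hlive : ThIndex62.live = List.range 11 := by decide +kernel
  have mem : ∀ i : Fin 11, (i : ℕ) ∈ ThIndex62.live := fun i => by
    rw [hlive]; exact List.mem_range.2 i.isLt
  refine isSimple_of_data (fun K hK => ThH99.normal_H L_ne_bot K hK) L_normal_in_H
    (by rw [relIndex_L_H]; norm_num) (ThH99.L_le_commutator L_ne_bot) L_ne_bot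
    (fun i : Fin 11 => ThIndex62.suborbitRep i) (fun i => ThIndex62.suborbitSize i) 0
    (by simp only [Fin.val_zero, ThIndex62.suborbitRep_zero]; exact H.one_mem)
    (by decide +kernel) ?_ (fun i => ThIndex62.suborbit_le (mem i)) ?_ ?_
  · intro q
    obtain ⟨a, ha, hq⟩ := ThIndex62.suborbit_cover q
    rw [hlive, List.mem_range] at ha
    exact ⟨⟨a, ha⟩, hq⟩
  · rw [hidx]
    decide +kernel
  · rw [hidx]
    have key : ∀ T : Finset (Fin 11), (0 : Fin 11) ∈ T →
        (∑ i ∈ T, ThIndex62.suborbitSize i) ∣ 143127000 → T = {0} ∨ T = Finset.univ := by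
      decide +kernel
    exact key

end CfsgLib.Th34
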